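import Groth.Prelude.Def_W4c5normfunctorschNorm
import Mathlib.RingTheory.Norm.Basic

/-! Base change of polynomial laws along `bcAlong`. -/

namespace Groth.Agent.SymNorm

open scoped TensorProduct

universe u

noncomputable section

variable {R : Type u} [CommRing R] {Q : Type u} [CommRing Q] [Algebra R Q]

section
variable {X : Type u} [AddCommGroup X] [Module R X] {Y : Type u} [AddCommGroup Y] [Module R Y] [Module Q Y] [IsScalarTower R Q Y]
  (g : X →ₗ[R] Y) (P : Type u) [CommRing P] [Algebra R P] [Algebra Q P] [IsScalarTower R Q P]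

lemma bcAlong_tmul (p : P) (x : X) : PolLaw.bcAlong (Q := Q) g P (p ⊗ₜ[R] x) = p ⊗ₜ[Q] g x := by
  simp [PolLaw.bcAlong]

lemma bcAlong_smul (p : P) (z : P ⊗[R] X) : PolLaw.bcAlong (Q := Q) g P (p • z) = p • PolLaw.bcAlong (Q := Q) g P z := by
  induction z using TensorProduct.induction_on with
  | zero => simp
  | tmul q x => rw [TensorProduct.smul_tmul', bcAlong_tmul, bcAlong_tmul, TensorProduct.smul_tmul']
  | add a b ha hb => rw [smul_add, map_add, ha, hb, map_add, smul_add]

lemma bcAlong_bijective (hg : IsBaseChange Q g) : Function.Bijective (PolLaw.bcAlong (Q := Q) g P) := by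
  have e : (g.liftBaseChange Q) = hg.equiv.toLinearMap := by
    refine TensorProduct.AlgebraTensorModule.ext fun q x => ?_
    simp [hg.equiv_tmul]
  have : (PolLaw.bcAlong (Q := Q) g P : P ⊗[R] X → P ⊗[Q] Y) = (hg.equiv.lTensor P) ∘ (TensorProduct.AlgebraTensorModule.cancelBaseChange R Q P P X).symm := by
    funext z
    simp only [PolLaw.bcAlong, LinearMap.comp_apply, Function.comp_apply, e]
    rfl
  rw [this]
  exact (hg.equiv.lTensor P).bijective.comp (TensorProduct.AlgebraTensorModule.cancelBaseChange R Q P P X).symm.bijective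

end

section
variable {R' Q' : Type u} [CommRing R'] [Algebra R R'] [CommRing Q'] [Algebra R Q'] [Algebra Q Q'] [Algebra R' Q']
  [IsScalarTower R Q Q'] [IsScalarTower R R' Q'] [Algebra.IsPushout R R' Q Q']
  (P : Type u) [CommRing P] [Algebra R P] [Algebra Q P] [IsScalarTower R Q P]

lemma pushout_isBaseChange (R R' Q Q' : Type u) [CommRing R] [CommRing R'] [Algebra R R'] [CommRing Q] [Algebra R Q]
    [CommRing Q'] [Algebra R Q'] [Algebra Q Q'] [Algebra R' Q']
    [IsScalarTower R Q Q'] [IsScalarTower R R' Q'] [h : Algebra.IsPushout R R' Q Q'] :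
    IsBaseChange Q (IsScalarTower.toAlgHom R R' Q').toLinearMap := h.symm.out

/-- base change along a pushout as an algebra isomorphism -/
def pushEquiv : P ⊗[R] R' ≃ₐ[P] P ⊗[Q] Q' :=
  AlgEquiv.ofBijective
    (Algebra.TensorProduct.lift (Algebra.ofId P (P ⊗[Q] Q'))
      (((Algebra.TensorProduct.includeRight : Q' →ₐ[Q] P ⊗[Q] Q').restrictScalars R).comp (IsScalarTower.toAlgHom R R' Q'))
      (fun _ _ => Commute.all _ _))
    (by
      convert bcAlong_bijective (IsScalarTower.toAlgHom R R' Q').toLinearMap P (pushout_isBaseChange R R' Q Q') using 1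
      funext z
      induction z using TensorProduct.induction_on with
      | zero => simp
      | tmul p x => rw [bcAlong_tmul]; simp [Algebra.ofId_apply, Algebra.TensorProduct.algebraMap_apply, Algebra.TensorProduct.tmul_mul_tmul]
      | add a b ha hb => rw [map_add, map_add, ha, hb])

lemma pushEquiv_apply (z : P ⊗[R] R') :
    pushEquiv (Q := Q) (Q' := Q') P z = PolLaw.bcAlong (IsScalarTower.toAlgHom R R' Q').toLinearMap P z := by
  induction z using TensorProduct.induction_on with
  | zero => simp
  | tmul p x =>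
    rw [bcAlong_tmul]
    simp [pushEquiv, Algebra.ofId_apply, Algebra.TensorProduct.algebraMap_apply, Algebra.TensorProduct.tmul_mul_tmul]
  | add a b ha hb => rw [map_add, map_add, ha, hb]

lemma norm_bcAlong (z : P ⊗[R] R') :
    Algebra.norm P (PolLaw.bcAlong (Q := Q) (IsScalarTower.toAlgHom R R' Q').toLinearMap P z) = Algebra.norm P z := by
  rw [← pushEquiv_apply]
  exact Algebra.norm_eq_of_algEquiv _ _

end

lemma rTensor_eq_map {S S' : Type u} [CommRing S] [Algebra R S] [CommRing S'] [Algebra R S'] {R' : Type u} [CommRing R'] [Algebra R R']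
    (ψ : S →ₐ[R] S') (z : S ⊗[R] R') :
    ψ.toLinearMap.rTensor R' z = Algebra.TensorProduct.map ψ (AlgHom.id R R') z := by
  induction z using TensorProduct.induction_on with
  | zero => simp
  | tmul a b => rfl
  | add a b ha hb => simp [ha, hb]

lemma norm_rTensor {S S' : Type u} [CommRing S] [Algebra R S] [CommRing S'] [Algebra R S'] {R' : Type u} [CommRing R'] [Algebra R R']
    [Module.Free R R'] [Module.Finite R R'] (ψ : S →ₐ[R] S') (z : S ⊗[R] R') :
    Algebra.norm S' (ψ.toLinearMap.rTensor R' z) = ψ (Algebra.norm S z) := by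
  rw [rTensor_eq_map, ← PolLaw.detAct_self, ← PolLaw.detAct_self, PolLaw.detAct_map]

end

end Groth.Agent.SymNorm
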