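import Groth.Agent.SymNorm.Det
import Groth.Agent.SymNorm.BC

/-! Base change of universal normic pairs. -/

namespace Groth.Agent.SymNorm

open scoped TensorProduct

universe u

noncomputable section

variable {R : Type u} [CommRing R] {Q : Type u} [CommRing Q] [Algebra R Q]

section
variable {X : Type u} [AddCommGroup X] [Module R X] {Y : Type u} [AddCommGroup Y] [Module R Y] [Module Q Y] [IsScalarTower R Q Y]

/-- `p ⊗ x ↦ p ⊗ g x`, for semiring test algebras -/
def bmap (g : X →ₗ[R] Y) (P : Type u) [CommSemiring P] [Algebra R P] [Algebra Q P] [IsScalarTower R Q P] :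
    P ⊗[R] X →ₗ[Q] P ⊗[Q] Y :=
  ((g.liftBaseChange Q).lTensor P) ∘ₗ
    ((TensorProduct.AlgebraTensorModule.cancelBaseChange R Q P P X).symm.toLinearMap.restrictScalars Q)

lemma bmap_eq (g : X →ₗ[R] Y) (P : Type u) [CommRing P] [Algebra R P] [Algebra Q P] [IsScalarTower R Q P] :
    bmap (Q := Q) g P = PolLaw.bcAlong g P := rfl

variable (g : X →ₗ[R] Y) (P : Type u) [CommSemiring P] [Algebra R P] [Algebra Q P] [IsScalarTower R Q P]

lemma bmap_tmul (p : P) (x : X) : bmap (Q := Q) g P (p ⊗ₜ[R] x) = p ⊗ₜ[Q] g x := by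
  simp [bmap]

lemma bmap_smul (p : P) (z : P ⊗[R] X) : bmap (Q := Q) g P (p • z) = p • bmap (Q := Q) g P z := by
  induction z using TensorProduct.induction_on with
  | zero => simp
  | tmul q x => rw [TensorProduct.smul_tmul', bmap_tmul, bmap_tmul, TensorProduct.smul_tmul']
  | add a b ha hb => rw [smul_add, map_add, ha, hb, map_add, smul_add]

lemma bmap_nat {P' : Type u} [CommSemiring P'] [Algebra R P'] [Algebra Q P'] [IsScalarTower R Q P']
    (φ : P →ₐ[Q] P') (z : P ⊗[R] X) :
    φ.toLinearMap.rTensor Y (bmap g P z) = bmap g P' ((φ.restrictScalars R).toLinearMap.rTensor X z) := by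
  induction z using TensorProduct.induction_on with
  | zero => simp
  | tmul q x => simp [bmap_tmul, LinearMap.rTensor_tmul]
  | add a b ha hb => simp only [map_add, ha, hb]

lemma bmap_bijective (hg : IsBaseChange Q g) : Function.Bijective (bmap (Q := Q) g P) := by
  have e : (g.liftBaseChange Q) = hg.equiv.toLinearMap := by
    refine TensorProduct.AlgebraTensorModule.ext fun q x => ?_
    simp [hg.equiv_tmul]
  have : (bmap (Q := Q) g P : P ⊗[R] X → P ⊗[Q] Y) = (hg.equiv.lTensor P) ∘ (TensorProduct.AlgebraTensorModule.cancelBaseChange R Q P P X).symm := by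
    funext z
    simp only [bmap, LinearMap.comp_apply, Function.comp_apply, e]
    rfl
  rw [this]
  exact (hg.equiv.lTensor P).bijective.comp (TensorProduct.AlgebraTensorModule.cancelBaseChange R Q P P X).symm.bijective

end

section
variable (S : Type u) [CommSemiring S] [Algebra R S] (E : Type u) [AddCommGroup E] [Module R E] [Module Q E] [IsScalarTower R Q E]

/-- `(q ⊗ s) ⊗ e ↦ s ⊗ q • e` -/
def kap : (Q ⊗[R] S) ⊗[Q] E →ₗ[R] S ⊗[R] E :=
  (TensorProduct.comm R E S).toLinearMap ∘ₗ
    ((TensorProduct.AlgebraTensorModule.cancelBaseChange R Q Q E S).toLinearMap.restrictScalars R) ∘ₗ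
    ((TensorProduct.comm Q (Q ⊗[R] S) E).toLinearMap.restrictScalars R)

lemma kap_tmul (q : Q) (s : S) (e : E) : kap (R := R) (Q := Q) S E ((q ⊗ₜ[R] s) ⊗ₜ[Q] e) = s ⊗ₜ[R] (q • e) := by
  simp [kap]

/-- the inclusion `s ↦ 1 ⊗ s` -/
def inS : S →ₐ[R] Q ⊗[R] S := Algebra.TensorProduct.includeRight

lemma inS_apply (s : S) : inS (Q := Q) S s = (1 : Q) ⊗ₜ[R] s := rfl

lemma kap_bmap {X : Type u} [AddCommGroup X] [Module R X] (g : X →ₗ[R] E) (y : S ⊗[R] X) :
    kap (R := R) (Q := Q) S E (bmap g (Q ⊗[R] S) ((inS (Q := Q) S).toLinearMap.rTensor X y)) = g.lTensor S y := by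
  induction y using TensorProduct.induction_on with
  | zero => simp
  | tmul s x => simp [bmap_tmul, inS_apply, kap_tmul]
  | add a b ha hb => simp only [map_add, ha, hb]

lemma kap_smul (s : S) (z : (Q ⊗[R] S) ⊗[Q] E) : kap (R := R) (Q := Q) S E (inS (R := R) (Q := Q) S s • z) = s • kap (R := R) (Q := Q) S E z := by
  induction z using TensorProduct.induction_on with
  | zero => simp
  | tmul p e =>
    induction p using TensorProduct.induction_on with
    | zero => simp
    | tmul q t =>
      rw [TensorProduct.smul_tmul', smul_eq_mul, inS_apply, Algebra.TensorProduct.tmul_mul_tmul, one_mul, kap_tmul,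
        kap_tmul, TensorProduct.smul_tmul', smul_eq_mul]
    | add a b ha hb => rw [TensorProduct.add_tmul, smul_add, map_add, ha, hb, map_add, smul_add]
  | add a b ha hb => rw [smul_add, map_add, ha, hb, map_add, smul_add]

end

section
variable {R' Q' : Type u} [CommRing R'] [Algebra R R'] [CommRing Q'] [Algebra R Q'] [Algebra Q Q'] [Algebra R' Q']
  [IsScalarTower R Q Q'] [IsScalarTower R R' Q']
  {M' : Type u} [AddCommGroup M'] [Module R M'] [Module R' M'] [IsScalarTower R R' M']
  {M'' : Type u} [AddCommGroup M''] [Module R M''] [Module R' M''] [Module Q M''] [Module Q' M'']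
  [IsScalarTower R R' M''] [IsScalarTower R Q M''] [IsScalarTower R' Q' M''] [IsScalarTower Q Q' M'']
  (f : M' →ₗ[R'] M'')

lemma bmap_actEnd (P : Type u) [CommSemiring P] [Algebra R P] [Algebra Q P] [IsScalarTower R Q P]
    (x : P ⊗[R] R') (z : P ⊗[R] M') :
    bmap (f.restrictScalars R) P (PolLaw.actEnd M' P x z)
      = PolLaw.actEnd M'' P (bmap (Q := Q) (IsScalarTower.toAlgHom R R' Q').toLinearMap P x)
          (bmap (f.restrictScalars R) P z) := by
  induction x using TensorProduct.induction_on with
  | zero => simp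
  | tmul s b =>
    induction z using TensorProduct.induction_on with
    | zero => simp
    | tmul t m => simp [bmap_tmul, map_smul, algebraMap_smul]
    | add a c ha hc => simp only [map_add, ha, hc]
  | add a c ha hc => simp only [map_add, LinearMap.add_apply, ha, hc]

lemma isBaseChange_restrict [Algebra.IsPushout R R' Q Q'] (hf : IsBaseChange Q' f) :
    IsBaseChange Q (f.restrictScalars R) := by
  haveI : Algebra.IsPushout R Q R' Q' := Algebra.IsPushout.symm inferInstance
  refine IsBaseChange.of_equiv
    ((Algebra.IsPushout.cancelBaseChange R Q R' Q' M').symm ≪≫ₗ hf.equiv.restrictScalars Q) fun x => ?_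
  simp [hf.equiv_tmul]

variable {N'' : Type u} [AddCommGroup N''] [Module R N''] [Module Q N''] [IsScalarTower R Q N'']
  (ν'' : M'' →ₚₗ[Q] N'')

/-- restriction of a law over `Q` to a law over `R` -/
def descend : M' →ₚₗ[R] N'' where
  toFun' S _ _ := fun x =>
    kap (R := R) (Q := Q) S N'' (ν''.toFun' (Q ⊗[R] S) (bmap (f.restrictScalars R) (Q ⊗[R] S) ((inS (Q := Q) S).toLinearMap.rTensor M' x)))
  isCompat' {S} _ _ {S'} _ _ φ := by
    funext x
    simp only [Function.comp_apply]
    let ψ : Q ⊗[R] S →ₐ[Q] Q ⊗[R] S' := Algebra.TensorProduct.map (AlgHom.id Q Q) φ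
    have h1 : ∀ z : (Q ⊗[R] S) ⊗[Q] N'', φ.toLinearMap.rTensor N'' (kap (R := R) (Q := Q) S N'' z) = kap (R := R) (Q := Q) S' N'' (ψ.toLinearMap.rTensor N'' z) := by
      intro z
      induction z using TensorProduct.induction_on with
      | zero => simp
      | tmul p e =>
        induction p using TensorProduct.induction_on with
        | zero => simp
        | tmul q t => simp [kap_tmul, ψ, LinearMap.rTensor_tmul]
        | add a b ha hb => simp only [TensorProduct.add_tmul, map_add, ha, hb]
      | add a b ha hb => simp only [map_add, ha, hb]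
    have h2 : (ψ.restrictScalars R).toLinearMap.rTensor M' ((inS (Q := Q) S).toLinearMap.rTensor M' x)
        = (inS (Q := Q) S').toLinearMap.rTensor M' (φ.toLinearMap.rTensor M' x) := by
      induction x using TensorProduct.induction_on with
      | zero => simp
      | tmul t m => simp [ψ, inS_apply]
      | add a b ha hb => simp only [map_add, ha, hb]
    rw [h1, PolynomialLaw.isCompat_apply', bmap_nat, h2]

lemma descend_normic [Algebra.IsPushout R R' Q Q'] [Module.Free R R'] [Module.Finite R R']
    (hν'' : PolLaw.IsNormic Q' ν'') : PolLaw.IsNormic R' (descend (R := R) f ν'') := by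
  intro S _ _ x z
  change kap (R := R) (Q := Q) S N'' (ν''.toFun' _ (bmap (f.restrictScalars R) (Q ⊗[R] S)
    ((inS (Q := Q) S).toLinearMap.rTensor M' (PolLaw.actEnd M' S x z)))) = _
  rw [PolLaw.rTensor_actEnd, bmap_actEnd f (Q' := Q'), hν'', bmap_eq, norm_bcAlong,
    ← PolLaw.rTensor_algHom_apply, norm_rTensor, kap_smul]
  rfl

variable {N : Type u} [AddCommGroup N] [Module R N] (ν : M' →ₚₗ[R] N) {E : Type u} [AddCommGroup E] [Module R E]
  [Module Q E] [IsScalarTower R Q E] (φ : N →ₗ[R] E)

/-- extension of a law over `R` to a law over `Q` -/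
def ascend (hf : IsBaseChange Q (f.restrictScalars R)) : M'' →ₚₗ[Q] E where
  toFun' P _ _ := fun w =>
    letI : Algebra R P := Algebra.compHom P (algebraMap R Q)
    haveI : IsScalarTower R Q P := IsScalarTower.of_algebraMap_eq' rfl
    bmap φ P (ν.toFun' P ((Equiv.ofBijective _ (bmap_bijective (f.restrictScalars R) P hf)).symm w))
  isCompat' {P} _ _ {P'} _ _ ψ := by
    letI : Algebra R P := Algebra.compHom P (algebraMap R Q)
    haveI : IsScalarTower R Q P := IsScalarTower.of_algebraMap_eq' rfl
    letI : Algebra R P' := Algebra.compHom P' (algebraMap R Q)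
    haveI : IsScalarTower R Q P' := IsScalarTower.of_algebraMap_eq' rfl
    funext w
    simp only [Function.comp_apply]
    obtain ⟨z, rfl⟩ := (bmap_bijective (f.restrictScalars R) P hf).2 w
    rw [Equiv.ofBijective_symm_apply_apply, bmap_nat φ, bmap_nat (f.restrictScalars R),
      Equiv.ofBijective_symm_apply_apply, PolynomialLaw.isCompat_apply']

lemma ascend_apply (hf : IsBaseChange Q (f.restrictScalars R)) (P : Type u) [CommSemiring P]
    [i : Algebra R P] [Algebra Q P] [IsScalarTower R Q P] (z : P ⊗[R] M') :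
    (ascend f ν φ hf).toFun' P (bmap (f.restrictScalars R) P z) = bmap φ P (ν.toFun' P z) := by
  obtain rfl : i = Algebra.compHom P (algebraMap R Q) :=
    Algebra.algebra_ext _ _ fun r => IsScalarTower.algebraMap_apply R Q P r
  letI : Algebra R P := Algebra.compHom P (algebraMap R Q)
  change bmap φ P (ν.toFun' P ((Equiv.ofBijective _ (bmap_bijective (f.restrictScalars R) P hf)).symm
    (bmap (f.restrictScalars R) P z))) = _
  rw [Equiv.ofBijective_symm_apply_apply]

lemma ascend_normic [Algebra.IsPushout R R' Q Q'] (hν : PolLaw.IsNormic R' ν) (hf : IsBaseChange Q (f.restrictScalars R)) :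
    PolLaw.IsNormic Q' (ascend f ν φ hf) := by
  intro P _ _ x w
  letI : Algebra R P := Algebra.compHom P (algebraMap R Q)
  haveI : IsScalarTower R Q P := IsScalarTower.of_algebraMap_eq' rfl
  obtain ⟨z, rfl⟩ := (bmap_bijective (f.restrictScalars R) P hf).2 w
  obtain ⟨y, rfl⟩ := (bmap_bijective (IsScalarTower.toAlgHom R R' Q').toLinearMap P
    (pushout_isBaseChange R R' Q Q')).2 x
  rw [← bmap_actEnd f, ascend_apply, ascend_apply, hν, bmap_smul, bmap_eq (IsScalarTower.toAlgHom R R' Q').toLinearMap,
    norm_bcAlong]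

end

end

end Groth.Agent.SymNorm
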