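import Groth.Agent.SymNorm.Det
import Mathlib.RingTheory.Finiteness.Basic
import Mathlib.Algebra.Module.Projective

/-! Transposition-invariant tensors lie in the alternating relations. -/

namespace Groth.Agent.SymNorm

open scoped TensorProduct
open Finset

universe u

variable {R : Type u} [CommRing R] {d : ℕ}

lemma invariant_mem_altSpan_free {n : ℕ} {i j : Fin d} (hij : i ≠ j) (y : ⨂[R] _ : Fin d, (Fin n → R))
    (hy : PiTensorProduct.reindex R (fun _ : Fin d => (Fin n → R)) (Equiv.swap i j) y = y) :
    y ∈ SymTen.altSpan R (Fin n → R) d := by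
  classical
  set F := Fin n → R
  let b := Pi.basisFun R (Fin n)
  let c : (Fin d → Fin n) → (⨂[R] _ : Fin d, F) →ₗ[R] R := fun w =>
    PiTensorProduct.lift ((MultilinearMap.mkPiAlgebra R (Fin d) R).compLinearMap fun k => b.coord (w k))
  have hc : ∀ w p, c w (PiTensorProduct.tprod R p) = ∏ k, b.repr (p k) (w k) := fun w p => by simp [c]
  have hexp : ∀ x : ⨂[R] _ : Fin d, F, x = ∑ w : Fin d → Fin n, c w x • PiTensorProduct.tprod R (fun k => b (w k)) := by
    intro x
    induction x using PiTensorProduct.induction_on with
    | smul_tprod r p =>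
      simp only [map_smul, hc, smul_eq_mul, mul_smul, ← Finset.smul_sum]
      congr 1
      conv_lhs => rw [show p = fun k => ∑ a, b.repr (p k) a • b a from funext fun k => (b.sum_repr (p k)).symm]
      rw [MultilinearMap.map_sum]
      exact Finset.sum_congr rfl fun w _ => MultilinearMap.map_smul_univ _ _ _
    | add x z hx hz =>
      simp only [map_add, add_smul, Finset.sum_add_distrib]
      rw [← hx, ← hz]
  set τ := Equiv.swap i j
  have hsymm : ∀ w, c (w ∘ τ) y = c w y := by
    intro w
    have : ∀ x, c w (PiTensorProduct.reindex R (fun _ : Fin d => F) τ x) = c (w ∘ τ) x := by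
      intro x
      induction x using PiTensorProduct.induction_on with
      | smul_tprod r p =>
        rw [map_smul, map_smul, map_smul, PiTensorProduct.reindex_tprod, hc, hc]
        congr 1
        refine (Fintype.prod_equiv τ _ _ fun k => ?_).symm
        simp only [Function.comp_apply, τ]; exact congrArg (fun a => b.repr (p a) (w (Equiv.swap i j k))) (Equiv.swap_apply_self i j k).symm
      | add x z hx hz => rw [map_add, map_add, map_add, hx, hz]
    conv_rhs => rw [← hy, this]
  rw [hexp y, ← Submodule.Quotient.mk_eq_zero, ← Submodule.mkQ_apply, map_sum]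
  have hterm : ∀ w : Fin d → Fin n, (SymTen.altSpan R F d).mkQ (c w y • PiTensorProduct.tprod R (fun k => b (w k)))
      = c w y • (altQ (R := R) (B := F) (d := d)) (fun k => b (w k)) := fun w => rfl
  rw [Finset.sum_congr rfl fun w _ => hterm w]
  refine Finset.sum_involution (fun w _ => w ∘ τ) (fun w _ => ?_) (fun w _ hne he => hne ?_) (fun w _ => mem_univ _)
    (fun w _ => by funext k; simp [τ])
  · have h := AlternatingMap.map_swap (altQ (R := R) (B := F) (d := d)) (fun k => b (w k)) hij
    simp only [Function.comp_def] at h ⊢
    have := hsymm w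
    simp only [Function.comp_def] at this
    rw [this, h, smul_neg, add_neg_cancel]
  · have h2 := congrFun he i
    simp only [Function.comp_apply, τ, Equiv.swap_apply_left] at h2
    rw [AlternatingMap.map_eq_zero_of_eq _ (fun k => b (w k)) (i := i) (j := j) (by simp only [h2]) hij, smul_zero]

lemma invariant_mem_altSpan {P : Type u} [AddCommGroup P] [Module R P] [Module.Finite R P] [Module.Projective R P]
    {i j : Fin d} (hij : i ≠ j) (y : ⨂[R] _ : Fin d, P)
    (hy : PiTensorProduct.reindex R (fun _ : Fin d => P) (Equiv.swap i j) y = y) :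
    y ∈ SymTen.altSpan R P d := by
  obtain ⟨n, π, hπ⟩ := Module.Finite.exists_fin' R P
  obtain ⟨ι, hι⟩ := Module.projective_lifting_property π LinearMap.id hπ
  have hret : PiTensorProduct.map (fun _ : Fin d => π) (PiTensorProduct.map (fun _ : Fin d => ι) y) = y := by
    rw [← LinearMap.comp_apply, ← PiTensorProduct.map_comp, hι, PiTensorProduct.map_id]
    rfl
  have h1 := invariant_mem_altSpan_free hij (PiTensorProduct.map (fun _ : Fin d => ι) y)
    (by rw [← PiTensorProduct.map_reindex, hy])
  rw [← hret]
  generalize PiTensorProduct.map (fun _ : Fin d => ι) y = z at h1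
  induction h1 using Submodule.span_induction with
  | mem x hx =>
    obtain ⟨p, a, c, hac, hp, rfl⟩ := hx
    rw [PiTensorProduct.map_tprod]
    exact Submodule.subset_span ⟨_, a, c, hac, by rw [hp], rfl⟩
  | zero => simp
  | add a c _ _ ha hc => rw [map_add]; exact add_mem ha hc
  | smul r a _ ha => rw [map_smul]; exact Submodule.smul_mem _ r ha

end Groth.Agent.SymNorm
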