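import Groth.Prelude.Def_W4c5normfunctorschNorm
import Mathlib.LinearAlgebra.Determinant
import Mathlib.LinearAlgebra.FreeModule.Finite.Basic
import Mathlib.RingTheory.TensorProduct.Free

/-! Symmetric tensors acting on the top exterior power of a free algebra. -/

namespace Groth.Agent.SymNorm

open scoped TensorProduct
open Finset

universe u

noncomputable section

variable {R : Type u} [CommRing R] {B : Type u} [CommRing B] [Algebra R B] {d : ℕ}

/-- the factorwise action -/
abbrev act (R B : Type u) [CommRing R] [CommRing B] [Algebra R B] (d : ℕ) :=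
  SymTen.tpowAct R B B d

lemma act_tprod (a p : Fin d → B) :
    act R B d (PiTensorProduct.tprod R a) (PiTensorProduct.tprod R p) = PiTensorProduct.tprod R (fun i => a i * p i) := by
  rw [act, SymTen.tpowAct, PiTensorProduct.lift.tprod, MultilinearMap.compLinearMap_apply]
  simp [PiTensorProduct.map_tprod]

lemma act_eq_mul (t x : ⨂[R] _ : Fin d, B) : act R B d t x = t * x := by
  induction t using PiTensorProduct.induction_on with
  | smul_tprod r a =>
    induction x using PiTensorProduct.induction_on with
    | smul_tprod s p =>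
      rw [map_smul, map_smul, LinearMap.smul_apply, act_tprod, smul_mul_assoc, mul_smul_comm,
        PiTensorProduct.tprod_mul_tprod, Pi.mul_def, smul_comm]
    | add x y hx hy => rw [map_add, mul_add, hx, hy]
  | add t t' ht ht' => rw [map_add, LinearMap.add_apply, add_mul, ht, ht']

variable (b : Module.Basis (Fin d) R B)

/-- the determinant functional on the tensor power -/
def dfun : (⨂[R] _ : Fin d, B) →ₗ[R] R := PiTensorProduct.lift b.det.toMultilinearMap

lemma dfun_tprod (p : Fin d → B) : dfun b (PiTensorProduct.tprod R p) = b.det p := by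
  rw [dfun, PiTensorProduct.lift.tprod]; rfl

lemma dfun_omega : dfun b (PiTensorProduct.tprod R b) = 1 := by rw [dfun_tprod, b.det_self]

lemma dfun_alt {x : ⨂[R] _ : Fin d, B} (hx : x ∈ SymTen.altSpan R B d) : dfun b x = 0 := by
  induction hx using Submodule.span_induction with
  | mem y hy =>
    obtain ⟨p, i, j, hij, hp, rfl⟩ := hy
    rw [dfun_tprod]
    exact b.det.map_eq_zero_of_eq p hp hij
  | zero => simp
  | add y z _ _ hy hz => rw [map_add, hy, hz, add_zero]
  | smul r y _ hy => rw [map_smul, hy, smul_zero]

/-- pure tensors modulo the alternating relations -/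
def altQ : B [⋀^(Fin d)]→ₗ[R] ((⨂[R] _ : Fin d, B) ⧸ SymTen.altSpan R B d) where
  toMultilinearMap := (SymTen.altSpan R B d).mkQ.compMultilinearMap (PiTensorProduct.tprod R)
  map_eq_zero_of_eq' v i j h hij := by
    change Submodule.Quotient.mk (PiTensorProduct.tprod R v) = 0
    rw [Submodule.Quotient.mk_eq_zero]
    exact Submodule.subset_span ⟨v, i, j, hij, h, rfl⟩

/-- every tensor is congruent to a multiple of the volume tensor -/
lemma sub_dfun_mem (x : ⨂[R] _ : Fin d, B) :
    x - dfun b x • PiTensorProduct.tprod R b ∈ SymTen.altSpan R B d := by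
  have h : altQ (R := R) (B := B) (d := d)
      = (LinearMap.toSpanSingleton R _ (altQ (R := R) (B := B) (d := d) b)).compAlternatingMap b.det := by
    refine Module.Basis.ext_alternating b fun v hv => ?_
    obtain ⟨σ, rfl⟩ : ∃ σ : Equiv.Perm (Fin d), (σ : Fin d → Fin d) = v :=
      ⟨Equiv.ofBijective v (Finite.injective_iff_bijective.1 hv), rfl⟩
    have e1 := AlternatingMap.map_perm (altQ (R := R) (B := B) (d := d)) b σ
    have e2 := AlternatingMap.map_perm b.det b σ
    simp only [Function.comp_def] at e1 e2
    rw [LinearMap.compAlternatingMap_apply, e1, e2, b.det_self, LinearMap.toSpanSingleton_apply]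
    rw [Units.smul_def, Units.smul_def, smul_assoc, one_smul]
  induction x using PiTensorProduct.induction_on with
  | smul_tprod r p =>
    have hp : PiTensorProduct.tprod R p - dfun b (PiTensorProduct.tprod R p) • PiTensorProduct.tprod R b
        ∈ SymTen.altSpan R B d := by
      rw [← Submodule.Quotient.eq, Submodule.Quotient.mk_smul, dfun_tprod]
      have e := DFunLike.congr_fun h p
      rw [LinearMap.compAlternatingMap_apply, LinearMap.toSpanSingleton_apply] at e
      exact e
    have := Submodule.smul_mem _ r hp
    rwa [smul_sub, smul_smul, ← smul_eq_mul, ← map_smul (dfun b)] at this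
  | add x y hx hy =>
    have := add_mem hx hy
    rwa [map_add, add_smul, add_sub_add_comm]

/-- coordinates in the tensor basis -/
def coordW (w : Fin d → Fin d) : (⨂[R] _ : Fin d, B) →ₗ[R] R :=
  PiTensorProduct.lift ((MultilinearMap.mkPiAlgebra R (Fin d) R).compLinearMap fun j => b.coord (w j))

lemma coordW_tprod (w : Fin d → Fin d) (p : Fin d → B) :
    coordW b w (PiTensorProduct.tprod R p) = ∏ j, b.repr (p j) (w j) := by
  simp [coordW]

lemma tprod_expand (p : Fin d → B) :
    PiTensorProduct.tprod R p
      = ∑ w : Fin d → Fin d, (∏ j, b.repr (p j) (w j)) • PiTensorProduct.tprod R (fun j => b (w j)) := by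
  conv_lhs => rw [show p = fun j => ∑ i, b.repr (p j) i • b i from funext fun j => (b.sum_repr (p j)).symm]
  rw [MultilinearMap.map_sum]
  exact Finset.sum_congr rfl fun w _ => MultilinearMap.map_smul_univ _ _ _

lemma expand (t : ⨂[R] _ : Fin d, B) :
    t = ∑ w : Fin d → Fin d, coordW b w t • PiTensorProduct.tprod R (fun j => b (w j)) := by
  induction t using PiTensorProduct.induction_on with
  | smul_tprod r p =>
    simp only [map_smul, coordW_tprod, smul_eq_mul, mul_smul, ← Finset.smul_sum]
    rw [← tprod_expand]
  | add x y hx hy =>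
    simp only [map_add, add_smul, Finset.sum_add_distrib]
    rw [← hx, ← hy]

lemma coordW_perm (σ : Equiv.Perm (Fin d)) (w : Fin d → Fin d) (t : ⨂[R] _ : Fin d, B) :
    coordW b w (SymTen.perm R B d σ t) = coordW b (w ∘ σ) t := by
  induction t using PiTensorProduct.induction_on with
  | smul_tprod r p =>
    rw [map_smul, map_smul, map_smul, SymTen.perm_tprod, coordW_tprod, coordW_tprod]
    congr 1
    refine (Fintype.prod_equiv σ _ _ fun j => ?_).symm
    simp only [Function.comp_apply]
    rw [show σ.symm (σ j) = j from σ.symm_apply_apply j]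
  | add x y hx hy => rw [map_add, map_add, map_add, hx, hy]

/-- invariant tensors preserve the alternating relations -/
lemma sym_mul_alt {t : ⨂[R] _ : Fin d, B} (ht : ∀ σ, SymTen.perm R B d σ t = t)
    {x : ⨂[R] _ : Fin d, B} (hx : x ∈ SymTen.altSpan R B d) : dfun b (t * x) = 0 := by
  induction hx using Submodule.span_induction with
  | mem y hy =>
    obtain ⟨p, i, j, hij, hp, rfl⟩ := hy
    set τ := Equiv.swap i j with hτ
    have hpτ : ∀ k, p (τ k) = p k := fun k => by
      rw [hτ, Equiv.swap_apply_def]
      split_ifs with h1 h2 <;> simp_all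
    rw [expand b t, Finset.sum_mul, map_sum]
    have hsymm : ∀ w : Fin d → Fin d, coordW b (w ∘ τ) t = coordW b w t := fun w => by
      rw [← coordW_perm, ht]
    set a : (Fin d → Fin d) → R := fun w => b.det fun k => b (w k) * p k with ha
    have hterm : ∀ w, dfun b (coordW b w t • PiTensorProduct.tprod R (fun k => b (w k)) * PiTensorProduct.tprod R p)
        = coordW b w t * a w := fun w => by
      rw [smul_mul_assoc, map_smul, PiTensorProduct.tprod_mul_tprod, dfun_tprod, smul_eq_mul]
      rfl
    simp only [hterm]
    have hneg : ∀ w, a (w ∘ τ) = -a w := fun w => by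
      have h := b.det.map_swap (fun k => b (w k) * p k) hij
      simp only [ha, Function.comp_def] at h ⊢
      rw [← h]
      congr 1
      funext k
      rw [← hτ, hpτ]
    refine Finset.sum_involution (fun w _ => w ∘ τ) (fun w _ => ?_) (fun w _ hne he => hne ?_) (fun w _ => mem_univ _)
      (fun w _ => by funext k; simp [hτ])
    · rw [hsymm, hneg]; ring
    · have h0 : b.det (fun k => b (w k) * p k) = 0 := by
        refine b.det.map_eq_zero_of_eq _ (i := i) (j := j) ?_ hij
        have h2 := congrFun he i
        simp only [Function.comp_apply, hτ, Equiv.swap_apply_left] at h2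
        simp only [h2, hp]
      simp [ha, h0]
  | zero => simp
  | add y z _ _ hy hz => rw [mul_add, map_add, hy, hz, add_zero]
  | smul r y _ hy => rw [mul_smul_comm, map_smul, hy, smul_zero]

lemma dfun_mul_eq {t : ⨂[R] _ : Fin d, B} (ht : ∀ σ, SymTen.perm R B d σ t = t) (x : ⨂[R] _ : Fin d, B) :
    dfun b (t * x) = dfun b x * dfun b (t * PiTensorProduct.tprod R b) := by
  conv_lhs => rw [← sub_add_cancel x (dfun b x • PiTensorProduct.tprod R b)]
  rw [mul_add, map_add, sym_mul_alt b ht (sub_dfun_mem b x), zero_add, mul_smul_comm, map_smul, smul_eq_mul]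

/-- polynomial laws agreeing on test rings agree -/
lemma law_ext {M N : Type u} [AddCommGroup M] [Module R M] [AddCommGroup N] [Module R N] {F G : M →ₚₗ[R] N}
    (h : ∀ (S : Type u) [CommRing S] [Algebra R S] (x : S ⊗[R] M), F.toFun' S x = G.toFun' S x) : F = G := by
  refine PolynomialLaw.ext ?_
  ext S _ _ x
  let e : R ⊗[R] S ≃ₐ[R] S := Algebra.TensorProduct.lid R S
  have hinj : Function.Injective (e.symm.toAlgHom.toLinearMap.rTensor N) := by
    refine Function.LeftInverse.injective (g := e.toAlgHom.toLinearMap.rTensor N) fun z => ?_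
    rw [← LinearMap.rTensor_comp_apply]
    induction z using TensorProduct.induction_on with
    | zero => simp
    | tmul s y => simp [e]
    | add a c ha hc => rw [map_add, ha, hc]
  refine hinj ?_
  rw [PolynomialLaw.isCompat_apply', PolynomialLaw.isCompat_apply']
  exact h (R ⊗[R] S) _

lemma prod_tmul {S C : Type u} [CommSemiring S] [Algebra R S] [CommRing C] [Algebra R C] {κ : Type}
    (s : Finset κ) (f : κ → S) (g : κ → C) :
    (∏ j ∈ s, f j ⊗ₜ[R] g j : S ⊗[R] C) = (∏ j ∈ s, f j) ⊗ₜ[R] (∏ j ∈ s, g j) := by
  classical
  induction s using Finset.induction_on with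
  | empty => simp [Algebra.TensorProduct.one_def]
  | insert a s ha ih => rw [prod_insert ha, prod_insert ha, prod_insert ha, ih, Algebra.TensorProduct.tmul_mul_tmul]

lemma prod_single (p : Fin d → B) :
    ∏ j, PiTensorProduct.singleAlgHom (R := R) (A := fun _ : Fin d => B) j (p j) = PiTensorProduct.tprod R p := by
  simp only [PiTensorProduct.singleAlgHom_apply, MonoidHom.mulSingle_apply]
  rw [← PiTensorProduct.tprod_prod]
  exact congrArg _ (Finset.univ_prod_mulSingle p)

/-- the determinant functional turns the tensor-power law into the norm -/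
lemma dfun_tpow_eq_norm (S : Type u) [CommRing S] [Algebra R S] (x : S ⊗[R] B) :
    ((dfun b).comp (LinearMap.mulRight R (PiTensorProduct.tprod R b))).lTensor S
      ((SymTen.tpowLaw R B d).law.toFun' S x) = Algebra.norm S x ⊗ₜ[R] (1 : R) := by
  set bS := Algebra.TensorProduct.basis S b with hbS
  set s : Fin d → S := fun i => bS.repr x i
  have hx : x = ∑ i, s i ⊗ₜ[R] b i := by
    conv_lhs => rw [← bS.sum_repr x]
    refine sum_congr rfl fun i _ => ?_
    rw [hbS, Algebra.TensorProduct.basis_apply, TensorProduct.smul_tmul', smul_eq_mul, mul_one]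
  set r : Fin d → Fin d → Fin d → S := fun i j k => algebraMap R S (b.repr (b i * b j) k) with hr
  have hnorm : Algebra.norm S x = ∑ w : Fin d → Fin d, (∏ j, s (w j)) * (Matrix.of fun j k => r (w j) j k).det := by
    rw [Algebra.norm_eq_matrix_det bS, ← Matrix.det_transpose]
    have hM : (Algebra.leftMulMatrix bS x).transpose = Matrix.of fun j k => ∑ i, s i * r i j k := by
      ext j k
      rw [Matrix.transpose_apply, Matrix.of_apply, Algebra.leftMulMatrix_eq_repr_mul]
      rw [hbS, Algebra.TensorProduct.basis_apply, hx, sum_mul, map_sum, Finset.sum_apply']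
      refine sum_congr rfl fun i _ => ?_
      rw [Algebra.TensorProduct.tmul_mul_tmul, mul_one, Algebra.TensorProduct.basis_repr_tmul]
      simp [hr, Algebra.smul_def, mul_comm]
    rw [hM]
    change (Matrix.detRowAlternating (R := S) (n := Fin d)).toMultilinearMap (fun j k => ∑ i, s i * r i j k) = _
    rw [show (fun j k => ∑ i, s i * r i j k) = fun j => ∑ i, s i • r i j by
      funext j k; simp [Finset.sum_apply], MultilinearMap.map_sum]
    refine sum_congr rfl fun w _ => ?_
    rw [MultilinearMap.map_smul_univ]
    rfl
  have hlaw : (SymTen.tpowLaw R B d).law.toFun' S x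
      = ∑ w : Fin d → Fin d, (∏ j, s (w j)) ⊗ₜ[R] PiTensorProduct.tprod R (fun j => b (w j)) := by
    rw [SymTen.tpowLaw, PolLaw.MulLaw.prodMap_toFun', hx]
    simp only [map_sum, Algebra.TensorProduct.map_tmul, AlgHom.id_apply]
    rw [Finset.prod_univ_sum, Fintype.piFinset_univ]
    refine sum_congr rfl fun w _ => ?_
    rw [prod_tmul, prod_single]
  rw [hlaw, map_sum, hnorm, TensorProduct.sum_tmul]
  refine sum_congr rfl fun w _ => ?_
  rw [LinearMap.lTensor_tmul, LinearMap.comp_apply, LinearMap.mulRight_apply, PiTensorProduct.tprod_mul_tprod,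
    dfun_tprod]
  have hdet : (Matrix.of fun j k => r (w j) j k).det = algebraMap R S (b.det fun j => b (w j) * b j) := by
    rw [Module.Basis.det_apply, ← Matrix.det_transpose (b.toMatrix _), RingHom.map_det]
    congr 1
  rw [hdet, mul_comm (∏ j, s (w j)), ← Algebra.smul_def, TensorProduct.smul_tmul, smul_eq_mul, mul_one]
  congr 2

end

end Groth.Agent.SymNorm
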