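import Groth.Prelude.Def_SymTen
import Mathlib.Data.Nat.Choose.Sum
import Mathlib.Algebra.Module.BigOperators
import Mathlib.LinearAlgebra.Multilinear.Basic
import Mathlib.Data.Fintype.Perm

/-! Polarisation: symmetric tensors are spanned by powers when `d!` is invertible. -/

namespace Groth.Agent.SymNorm

open scoped TensorProduct
open Finset

universe u

variable {A : Type u} [CommRing A] {B : Type u} [CommRing B] [Algebra A B] {d : ℕ}

lemma polar (p : Fin d → B) :
    ∑ T ∈ (univ : Finset (Fin d)).powerset, (-1 : A) ^ T.card • PiTensorProduct.tprod A (fun _ : Fin d => ∑ i ∈ Tᶜ, p i)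
      = ∑ σ : Equiv.Perm (Fin d), PiTensorProduct.tprod A (fun j => p (σ j)) := by
  classical
  have h1 : ∀ T : Finset (Fin d), PiTensorProduct.tprod A (fun _ : Fin d => ∑ i ∈ Tᶜ, p i)
      = ∑ w : Fin d → Fin d, if T ⊆ (univ.image w)ᶜ then PiTensorProduct.tprod A (fun j => p (w j)) else 0 := by
    intro T
    rw [MultilinearMap.map_sum_finset]
    rw [← Finset.sum_filter]
    refine Finset.sum_congr ?_ fun _ _ => rfl
    ext w
    simp only [Fintype.mem_piFinset, mem_compl, mem_filter, mem_univ, true_and]
    constructor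
    · intro h x hx
      simp only [mem_compl, mem_image, mem_univ, true_and, not_exists]
      exact fun j hj => h j (hj ▸ hx)
    · intro h j hj
      have := h hj
      simp at this
  simp only [h1]
  rw [Finset.sum_congr rfl fun T _ => Finset.smul_sum, Finset.sum_comm]
  have h2 : ∀ w : Fin d → Fin d,
      (∑ T ∈ (univ : Finset (Fin d)).powerset, (-1 : A) ^ T.card •
        if T ⊆ (univ.image w)ᶜ then PiTensorProduct.tprod A (fun j => p (w j)) else 0)
      = if Function.Surjective w then PiTensorProduct.tprod A (fun j => p (w j)) else 0 := by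
    intro w
    simp only [smul_ite, smul_zero]
    rw [← Finset.sum_filter]
    have : ((univ : Finset (Fin d)).powerset.filter fun T => T ⊆ (univ.image w)ᶜ) = ((univ.image w)ᶜ).powerset := by
      ext T; simp
    rw [this, ← Finset.sum_smul]
    have hc : (∑ m ∈ ((univ.image w)ᶜ).powerset, (-1 : A) ^ m.card) = if (univ.image w)ᶜ = ∅ then 1 else 0 := by
      have := congrArg (Int.cast : ℤ → A) (Finset.sum_powerset_neg_one_pow_card (x := (univ.image w)ᶜ))
      push_cast at this
      rw [this]
    rw [hc]
    by_cases hs : Function.Surjective w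
    · rw [if_pos hs, if_pos (by rw [Finset.image_univ_of_surjective hs]; simp), one_smul]
    · rw [if_neg hs, if_neg (fun h => hs ?_), zero_smul]
      intro y
      have hy : y ∈ univ.image w := by
        rw [compl_eq_empty_iff] at h
        rw [h]; exact mem_univ _
      simpa using hy
  simp only [h2]
  rw [← Finset.sum_filter]
  refine (Finset.sum_bij (s := (univ : Finset (Equiv.Perm (Fin d)))) (fun (σ : Equiv.Perm (Fin d)) _ => (σ : Fin d → Fin d)) (fun σ _ => by simpa using σ.surjective)
    (fun σ _ τ _ h => Equiv.coe_fn_injective h) (fun w hw => ?_) (fun _ _ => rfl)).symm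
  simp only [mem_filter, mem_univ, true_and] at hw
  exact ⟨Equiv.ofBijective w ⟨Finite.injective_iff_surjective.2 hw, hw⟩, mem_univ _, rfl⟩

/-- symmetric tensors are spanned by powers when `d!` is invertible -/
lemma TS_span_tpow (hfact : IsUnit ((Nat.factorial d : ℕ) : A)) (t : SymTen.TS A B d) :
    t ∈ Submodule.span A (Set.range (SymTen.tpow A B d)) := by
  classical
  set W := (Submodule.span A (Set.range (SymTen.tpow A B d))).map (SymTen.TS A B d).val.toLinearMap with hW
  suffices h : (t : ⨂[A] _ : Fin d, B) ∈ W by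
    obtain ⟨s, hs, hst⟩ := h
    rwa [← Subtype.ext (a1 := s) (a2 := t) hst]
  have hsum : ∀ x : ⨂[A] _ : Fin d, B, ∑ σ : Equiv.Perm (Fin d), SymTen.perm A B d σ x ∈ W := by
    intro x
    induction x using PiTensorProduct.induction_on with
    | smul_tprod r p =>
      simp only [map_smul, ← smul_sum, SymTen.perm_tprod]
      refine Submodule.smul_mem _ r ?_
      rw [← Equiv.sum_comp (Equiv.inv (Equiv.Perm (Fin d)))]
      change ∑ σ : Equiv.Perm (Fin d), PiTensorProduct.tprod A (fun j => p ((σ⁻¹).symm j)) ∈ W
      simp only [Equiv.Perm.inv_def, Equiv.symm_symm]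
      rw [← polar]
      refine Submodule.sum_mem _ fun T _ => Submodule.smul_mem _ _ ?_
      exact ⟨SymTen.tpow A B d (∑ i ∈ Tᶜ, p i), Submodule.subset_span ⟨_, rfl⟩, rfl⟩
    | add x y hx hy =>
      simp only [map_add, sum_add_distrib]
      exact add_mem hx hy
  obtain ⟨v, hv⟩ := hfact.exists_left_inv
  have := Submodule.smul_mem _ v (hsum t)
  rw [show ∑ σ : Equiv.Perm (Fin d), SymTen.perm A B d σ (t : ⨂[A] _ : Fin d, B) = ∑ _σ : Equiv.Perm (Fin d), (t : ⨂[A] _ : Fin d, B) from
    sum_congr rfl fun σ _ => by rw [SymTen.perm_apply]; exact t.2 σ, sum_const, card_univ, Fintype.card_perm,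
    Fintype.card_fin, ← Nat.cast_smul_eq_nsmul A, smul_smul, hv, one_smul] at this
  exact this

end Groth.Agent.SymNorm
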